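import Groth.Agent.HopfGr.Graded
import Mathlib

/-! Cartier's theorem: Hopf algebras of finite type in characteristic zero are reduced. -/

set_option autoImplicit false
universe u v

open TensorProduct WithConv

noncomputable section

namespace Groth.Agent.HopfGr

variable {k : Type u} [Field k] {A : Type v} [CommRing A] [HopfAlgebra k A] [Algebra.FiniteType k A]

theorem exists_lifts : ∃ (d : ℕ) (b : Module.Basis (Fin d) k (HopfDeriv.augI k A).Cotangent) (x : Fin d → A),
    (∀ i, x i ∈ HopfDeriv.augI k A) ∧ ∀ i, proj k A (x i) = b i := by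
  haveI := finite_cotangent (k := k) (A := A)
  let b := Module.finBasis k (HopfDeriv.augI k A).Cotangent
  choose x0 hx0 using fun i => surjective_proj' (k := k) (A := A) (b i)
  refine ⟨_, b, fun i => x0 i - Coalgebra.counit (R := k) (x0 i) • (1 : A), fun i => by simp [RingHom.mem_ker], fun i => ?_⟩
  rw [map_sub, map_smul, proj_one, smul_zero, sub_zero, hx0]

theorem mem_pow_of_isNilpotent [CharZero k] {a : A} (ha : IsNilpotent a) :
    ∀ n, a ∈ HopfDeriv.augI k A ^ n := by
  classical
  obtain ⟨d, b, x, hxI, hx⟩ := exists_lifts (k := k) (A := A)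
  obtain ⟨m, hm⟩ := ha
  intro n
  induction n with
  | zero => simp
  | succ n ih =>
    obtain ⟨c, hc, h⟩ := lead_pow b ih m
    rw [hm, map_zero] at h
    have h2 : (lead b n a) ^ m = 0 := by
      have h' := h.symm
      rw [← Nat.cast_smul_eq_nsmul k] at h'
      exact (smul_eq_zero.mp h').resolve_left (Nat.cast_ne_zero.mpr hc.ne')
    refine mem_pow_succ_of_lead_eq_zero b hxI hx (Nat.cast_ne_zero.mpr n.factorial_ne_zero) ih ?_
    exact eq_zero_of_pow_eq_zero h2

/-- Translation by a point. -/
def translate (g : A →ₐ[k] k) : A →ₐ[k] A :=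
  (toConv ((Algebra.ofId k A).comp g) * toConv (AlgHom.id k A)).ofConv

theorem translate_translate (g h : A →ₐ[k] k) :
    (translate h).comp (translate g) = translate (toConv g * toConv h).ofConv := by
  have hcomp : ∀ (F : A →ₐ[k] A) (p q : A →ₐ[k] A),
      F.comp (toConv p * toConv q).ofConv = (toConv (F.comp p) * toConv (F.comp q)).ofConv := by
    intro F p q
    refine AlgHom.ext fun a => ?_
    rw [AlgHom.comp_apply, AlgHom.convMul_apply, AlgHom.convMul_apply]
    induction Coalgebra.comul (R := k) a with
    | zero => simp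
    | add p q hp hq => simp only [map_add, hp, hq]
    | tmul x y => simp
  have h1 : (translate h).comp ((Algebra.ofId k A).comp g) = (Algebra.ofId k A).comp g :=
    AlgHom.ext fun a => by simp
  have hg : (Algebra.ofId k A).comp (toConv g * toConv h).ofConv =
      (toConv ((Algebra.ofId k A).comp g) * toConv ((Algebra.ofId k A).comp h)).ofConv := by
    refine AlgHom.ext fun a => ?_
    rw [AlgHom.comp_apply, AlgHom.convMul_apply, AlgHom.convMul_apply]
    induction Coalgebra.comul (R := k) a with
    | zero => simp
    | add p q hp hq => simp only [map_add, hp, hq]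
    | tmul x y => simp
  rw [show translate (k := k) (A := A) g = (toConv ((Algebra.ofId k A).comp g) * toConv (AlgHom.id k A)).ofConv from rfl,
    hcomp, h1, AlgHom.comp_id, translate, translate, hg, toConv_ofConv, toConv_ofConv]
  exact congrArg WithConv.ofConv (mul_assoc (G := WithConv (A →ₐ[k] A)) _ _ _).symm

theorem counit_translate (g : A →ₐ[k] k) (a : A) : Coalgebra.counit (R := k) (translate g a) = g a := by
  rw [translate, AlgHom.convMul_apply]
  conv_rhs => rw [← one_smul k a, ← TensorProduct.rid_tmul, ← Coalgebra.lTensor_counit_comul (R := k) a]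
  induction Coalgebra.comul (R := k) a with
  | zero => simp
  | add p q hp hq => simp only [map_add, hp, hq]
  | tmul x y => simp [mul_comm]

theorem translate_one : translate (Bialgebra.counitAlgHom k A) = AlgHom.id k A := by
  refine AlgHom.ext fun a => ?_
  rw [translate, AlgHom.convMul_apply, AlgHom.id_apply]
  conv_rhs => rw [← one_smul k a, ← TensorProduct.lid_tmul, ← Coalgebra.rTensor_counit_comul (R := k) a]
  induction Coalgebra.comul (R := k) a with
  | zero => simp
  | add p q hp hq => simp only [map_add, hp, hq]
  | tmul x y => simp [Algebra.smul_def]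

theorem exists_translate_inverse (g : A →ₐ[k] k) :
    ∃ τ τ' : A →ₐ[k] A, τ'.comp τ = AlgHom.id k A ∧ τ.comp τ' = AlgHom.id k A ∧
      ∀ a, Coalgebra.counit (R := k) (τ a) = g a := by
  let g' := g.comp (HopfAlgebra.antipodeAlgHom k A)
  have e1 : toConv g * toConv g' = 1 := by
    refine WithConv.ofConv_injective (AlgHom.ext fun a => ?_)
    rw [AlgHom.convMul_apply, AlgHom.convOne_apply, ← g.commutes (Coalgebra.counit (R := k) a),
      ← HopfAlgebra.mul_antipode_lTensor_comul_apply (R := k) a]
    induction Coalgebra.comul (R := k) a with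
    | zero => simp
    | tmul x y => simp [g']
    | add x y hx hy => simp only [map_add, hx, hy]
  have e2 : toConv g' * toConv g = 1 := by
    refine WithConv.ofConv_injective (AlgHom.ext fun a => ?_)
    rw [AlgHom.convMul_apply, AlgHom.convOne_apply, ← g.commutes (Coalgebra.counit (R := k) a),
      ← HopfAlgebra.mul_antipode_rTensor_comul_apply (R := k) a]
    induction Coalgebra.comul (R := k) a with
    | zero => simp
    | tmul x y => simp [g']
    | add x y hx hy => simp only [map_add, hx, hy]
  have h1 : (1 : WithConv (A →ₐ[k] k)).ofConv = Bialgebra.counitAlgHom k A := AlgHom.ext fun a => by simp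
  exact ⟨translate g, translate g', by rw [translate_translate, e1, h1, translate_one],
    by rw [translate_translate, e2, h1, translate_one], counit_translate g⟩

theorem eq_zero_of_forall_maximal_pow {R : Type v} [CommRing R] [IsNoetherianRing R] {a : R}
    (h : ∀ m : Ideal R, m.IsMaximal → ∀ n, a ∈ m ^ n) : a = 0 := by
  by_contra ha
  obtain ⟨m, hm, hle⟩ := Ideal.exists_le_maximal (Submodule.annihilator (Submodule.span R {a})) (by
    intro htop
    refine ha ?_
    have h1 : (1 : R) ∈ Submodule.annihilator (Submodule.span R {a}) := by rw [htop]; trivial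
    simpa using Submodule.mem_annihilator_span_singleton a 1 |>.mp h1)
  let L := Localization.AtPrime m
  have h0 : algebraMap R L a = 0 := by
    have hbot := Ideal.iInf_pow_eq_bot_of_isLocalRing (IsLocalRing.maximalIdeal L) (Ideal.IsPrime.ne_top inferInstance)
    rw [← Ideal.mem_bot, ← hbot, Ideal.mem_iInf]
    intro n
    rw [← Localization.AtPrime.map_eq_maximalIdeal, ← Ideal.map_pow]
    exact Ideal.mem_map_of_mem _ (h m hm n)
  obtain ⟨⟨s, hs⟩, hs'⟩ := (IsLocalization.map_eq_zero_iff m.primeCompl L a).mp h0
  exact hs (hle ((Submodule.mem_annihilator_span_singleton a s).mpr hs'))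

theorem isReduced_of_isAlgClosed [CharZero k] [IsAlgClosed k] : IsReduced A := by
  haveI : IsNoetherianRing A := Algebra.FiniteType.isNoetherianRing k A
  refine ⟨fun a ha => eq_zero_of_forall_maximal_pow fun m hm n => ?_⟩
  letI := Ideal.Quotient.field m
  haveI : Algebra.FiniteType k (A ⧸ m) :=
    Algebra.FiniteType.of_surjective (Ideal.Quotient.mkₐ k m) (Ideal.Quotient.mkₐ_surjective _ _)
  haveI := finite_of_finite_type_of_isJacobsonRing k (A ⧸ m)
  haveI : Algebra.IsIntegral k (A ⧸ m) := Algebra.IsIntegral.of_finite _ _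
  let e := AlgEquiv.ofBijective (Algebra.ofId k (A ⧸ m)) IsAlgClosed.algebraMap_bijective_of_isIntegral
  let g : A →ₐ[k] k := e.symm.toAlgHom.comp (Ideal.Quotient.mkₐ k m)
  have hg : ∀ y, g y = 0 → y ∈ m := fun y hy =>
    Ideal.Quotient.eq_zero_iff_mem.mp (e.symm.injective (hy.trans (map_zero _).symm))
  obtain ⟨τ, τ', h1, h2, hε⟩ := exists_translate_inverse g
  have hmap : (HopfDeriv.augI k A).map τ' ≤ m := Ideal.map_le_iff_le_comap.mpr fun y hy => by
    refine hg _ ?_
    rw [← hε, show τ (τ' y) = y from DFunLike.congr_fun h2 y]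
    exact hy
  have ha' := mem_pow_of_isNilpotent (k := k) (ha.map τ) n
  have h3 := Ideal.mem_map_of_mem τ' ha'
  rw [Ideal.map_pow, show τ' (τ a) = a from DFunLike.congr_fun h1 a] at h3
  exact Ideal.pow_right_mono hmap n h3

/-- Cartier's theorem. -/
theorem isReduced_charZero [CharZero k] : IsReduced A := by
  haveI : CharZero (AlgebraicClosure k) := charZero_of_injective_algebraMap (algebraMap k _).injective
  haveI : IsReduced (AlgebraicClosure k ⊗[k] A) := isReduced_of_isAlgClosed (k := AlgebraicClosure k)
  exact isReduced_of_injective (Algebra.TensorProduct.includeRight : A →ₐ[k] AlgebraicClosure k ⊗[k] A)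
    (Algebra.TensorProduct.includeRight_injective (RingHom.injective _))

end Groth.Agent.HopfGr
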