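import Groth.Agent.HopfGr.Cartier
import Mathlib

/-! Smooth quotients of Hopf algebras: ideals contained in the square of the augmentation ideal. -/

set_option autoImplicit false
universe u v

open TensorProduct WithConv

noncomputable section

namespace Groth.Agent.HopfGr

section General

variable {k : Type u} [CommRing k] {A : Type v} [CommRing A] [Algebra k A]

/-- An ideal with formally smooth quotient which is contained in `J ^ 2` is contained in all powers of `J`. -/
theorem le_pow_of_formallySmooth_quot (I J : Ideal A) [Algebra.FormallySmooth k (A ⧸ I)] (h2 : I ≤ J ^ 2) (n : ℕ) :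
    I ≤ J ^ n := by
  classical
  let K : Ideal (A ⧸ J ^ n) := I.map (Ideal.Quotient.mk (J ^ n))
  have hIJ : I ≤ J := h2.trans (Ideal.pow_le_self two_ne_zero)
  have hK : IsNilpotent K := ⟨n, by
    rw [Ideal.zero_eq_bot, eq_bot_iff]
    calc K ^ n = (I ^ n).map (Ideal.Quotient.mk (J ^ n)) := (Ideal.map_pow _ _ _).symm
      _ ≤ (J ^ n).map (Ideal.Quotient.mk (J ^ n)) := Ideal.map_mono (Ideal.pow_right_mono hIJ n)
      _ = ⊥ := Ideal.map_quotient_self _⟩
  let f : (A ⧸ I) →ₐ[k] (A ⧸ J ^ n) ⧸ K :=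
    Ideal.Quotient.liftₐ I ((Ideal.Quotient.mkₐ k K).comp (Ideal.Quotient.mkₐ k (J ^ n))) fun a ha =>
      Ideal.Quotient.eq_zero_iff_mem.mpr (Ideal.mem_map_of_mem _ ha)
  let φ : A →ₐ[k] A ⧸ J ^ n := (Algebra.FormallySmooth.lift K hK f).comp (Ideal.Quotient.mkₐ k I)
  have hbase : ∀ a, φ a - Ideal.Quotient.mk (J ^ n) a ∈ (J ^ 2).map (Ideal.Quotient.mk (J ^ n)) := by
    intro a
    refine Ideal.map_mono h2 (Ideal.Quotient.eq.mp ?_)
    have h := DFunLike.congr_fun (Algebra.FormallySmooth.comp_lift K hK f) (Ideal.Quotient.mk I a)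
    exact h
  let q := Ideal.Quotient.mk (J ^ n)
  have key : ∀ m, ∀ a ∈ J ^ m, φ a - q a ∈ (J ^ (m + 1)).map q := by
    intro m
    induction m with
    | zero => exact fun a _ => Ideal.map_mono (Ideal.pow_le_pow_right one_le_two) (hbase a)
    | succ m ih =>
      intro a ha
      rw [pow_succ] at ha
      refine Submodule.mul_induction_on ha (fun x hx y hy => ?_) (fun x y hx hy => ?_)
      ·
        have e : φ (x * y) - q (x * y) = (φ x - q x) * φ y + q x * (φ y - q y) := by
          rw [map_mul, map_mul]; ring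
        have hφy : φ y ∈ J.map q := by
          rw [← sub_add_cancel (φ y) (q y)]
          exact add_mem (Ideal.map_mono (Ideal.pow_le_self two_ne_zero) (hbase y)) (Ideal.mem_map_of_mem _ hy)
        rw [e]
        refine add_mem ?_ ?_
        · rw [pow_succ, Ideal.map_mul]
          exact Ideal.mul_mem_mul (ih x hx) hφy
        · rw [show J ^ (m + 1 + 1) = J ^ m * J ^ 2 by rw [← pow_add], Ideal.map_mul]
          exact Ideal.mul_mem_mul (Ideal.mem_map_of_mem _ hx) (hbase y)
      · rw [map_add, map_add, add_sub_add_comm]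
        exact add_mem hx hy
  intro a ha
  have hφ : φ a = 0 := by
    show Algebra.FormallySmooth.lift K hK f (Ideal.Quotient.mk I a) = 0
    rw [Ideal.Quotient.eq_zero_iff_mem.mpr ha, map_zero]
  suffices ∀ m, m ≤ n → a ∈ J ^ m from this n le_rfl
  intro m
  induction m with
  | zero => simp
  | succ m ih =>
    intro hm
    have h := key m a (ih (by omega))
    rw [hφ, zero_sub, Ideal.neg_mem_iff] at h
    exact (Ideal.mem_quotient_iff_mem (Ideal.pow_le_pow_right hm)).mp h

theorem le_iInf_pow_mul_self [IsNoetherianRing A] {I J : Ideal A} (h : ∀ n, I ≤ J ^ n) : I ≤ J * I := by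
  intro i hi
  have hmem : i ∈ (⨅ n : ℕ, J ^ n • ⊤ : Submodule A A) := by
    rw [Submodule.mem_iInf]
    intro n
    simpa [Ideal.mul_top] using h n hi
  obtain ⟨⟨r, hr⟩, hri⟩ := (J.mem_iInf_smul_pow_eq_bot_iff i).mp hmem
  rw [← hri]
  exact Ideal.mul_mem_mul hr hi

end General

variable {k : Type u} [CommRing k] {A : Type v} [CommRing A] [HopfAlgebra k A]

/-- A Hopf ideal with formally smooth quotient satisfying `I ≤ augI * I` is idempotent. -/
theorem le_sq_of_formallySmooth_quot (I : Ideal A) [I.IsHopfIdeal k] [Algebra.FormallySmooth k (A ⧸ I)]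
    (h : I ≤ HopfDeriv.augI k A * I) : I ≤ I ^ 2 := by
  let C := A ⧸ I ^ 2
  let K : Ideal C := I.map (Ideal.Quotient.mk (I ^ 2))
  have hK : IsNilpotent K := ⟨2, by rw [Ideal.zero_eq_bot, ← Ideal.map_pow]; exact Ideal.map_quotient_self _⟩
  let f : (A ⧸ I) →ₐ[k] C ⧸ K :=
    Ideal.Quotient.liftₐ I ((Ideal.Quotient.mkₐ k K).comp (Ideal.Quotient.mkₐ k (I ^ 2))) fun a ha =>
      Ideal.Quotient.eq_zero_iff_mem.mpr (Ideal.mem_map_of_mem _ ha)
  let s : (A ⧸ I) →ₐ[k] C := Algebra.FormallySmooth.lift K hK f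
  have hs : ∀ a, s (Ideal.Quotient.mk I a) - Ideal.Quotient.mk (I ^ 2) a ∈ K := fun a =>
    Ideal.Quotient.eq.mp (DFunLike.congr_fun (Algebra.FormallySmooth.comp_lift K hK f) (Ideal.Quotient.mk I a))
  let u : A →ₐ[k] C := s.comp (Ideal.Quotient.mkₐ k I)
  let v : A →ₐ[k] C := u.comp (HopfAlgebra.antipodeAlgHom k A)
  let q : A →ₐ[k] C := Ideal.Quotient.mkₐ k (I ^ 2)
  let β : A →ₐ[k] C := (toConv v * toConv q).ofConv
  have huv : toConv u * toConv v = 1 := by
    refine WithConv.ofConv_injective (AlgHom.ext fun a => ?_)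
    rw [AlgHom.convMul_apply, AlgHom.convOne_apply, ← u.commutes (Coalgebra.counit (R := k) a),
      ← HopfAlgebra.mul_antipode_lTensor_comul_apply (R := k) a]
    induction Coalgebra.comul (R := k) a with
    | zero => simp
    | tmul x y => simp [v]
    | add x y hx hy => simp only [map_add, hx, hy]
  have hβK : ∀ a, β a - algebraMap k C (Coalgebra.counit (R := k) a) ∈ K := by
    intro a
    have e : algebraMap k C (Coalgebra.counit (R := k) a) =
        q (LinearMap.mul' k A ((HopfAlgebra.antipode k).rTensor A (Coalgebra.comul (R := k) a))) := by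
      rw [HopfAlgebra.mul_antipode_rTensor_comul_apply, AlgHom.commutes]
    rw [e, AlgHom.convMul_apply]
    induction Coalgebra.comul (R := k) a with
    | zero => simp
    | add x y hx hy =>
      simp only [map_add, add_sub_add_comm]
      exact add_mem hx hy
    | tmul x y =>
      simp only [LinearMap.rTensor_tmul, LinearMap.mul'_apply, Algebra.TensorProduct.lift_tmul, map_mul, ← sub_mul]
      exact Ideal.mul_mem_right _ _ (hs _)
  have hβI : ∀ a ∈ I, β a = 0 := by
    intro a ha
    refine Submodule.mul_induction_on (h ha) (fun x hx y hy => ?_) (fun x y hx hy => by rw [map_add, hx, hy, add_zero])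
    ·
      have hx' : β x ∈ K := by
        have := hβK x
        rwa [show Coalgebra.counit (R := k) x = 0 from hx, map_zero, sub_zero] at this
      have hy' : β y ∈ K := by
        have hy0 : Coalgebra.counit (R := k) y = 0 :=
          Submodule.IsCoideal.counit_eq_zero (I := I.restrictScalars k) hy
        have := hβK y
        rwa [hy0, map_zero, sub_zero] at this
      rw [map_mul, ← Ideal.mem_bot, ← (Ideal.map_quotient_self (I ^ 2)), Ideal.map_pow]
      exact (sq K).symm ▸ Ideal.mul_mem_mul hx' hy'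
  intro a ha
  let β' : (A ⧸ I) →ₐ[k] C := Ideal.Quotient.liftₐ I β hβI
  have e1 : (toConv u * toConv β).ofConv a = (toConv s * toConv β').ofConv (Ideal.Quotient.mk I a) := by
    rw [AlgHom.convMul_apply, AlgHom.convMul_apply,
      show Coalgebra.comul (R := k) (Ideal.Quotient.mk I a) =
        TensorProduct.map (Bialgebra.Quotient.mkBialgHom (R := k) I).toLinearMap
          (Bialgebra.Quotient.mkBialgHom (R := k) I).toLinearMap (Coalgebra.comul (R := k) a) from
        (CoalgHomClass.map_comp_comul_apply (Bialgebra.Quotient.mkBialgHom (R := k) I) a).symm]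
    induction Coalgebra.comul (R := k) a with
    | zero => simp
    | add x y hx hy => simp only [map_add, hx, hy]
    | tmul x y => rfl
  have e2 : (toConv u * toConv β).ofConv = q := by
    rw [show toConv β = toConv v * toConv q from toConv_ofConv _, ← mul_assoc (G := WithConv (A →ₐ[k] C)), huv, one_mul]
  rw [e2, Ideal.Quotient.eq_zero_iff_mem.mpr ha, map_zero] at e1
  exact Ideal.Quotient.eq_zero_iff_mem.mp e1

end Groth.Agent.HopfGr

namespace Groth.Agent.HopfGr

open PrimeSpectrum in
theorem exists_maximal_isSmoothAt {k : Type u} [Field k] [PerfectField k] {R : Type v} [CommRing R] [Nontrivial R]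
    [Algebra k R] [Algebra.FiniteType k R] [IsReduced R] :
    ∃ m : Ideal R, ∃ _ : m.IsMaximal, Algebra.IsSmoothAt k m := by
  haveI : Algebra.FinitePresentation k R := Algebra.FinitePresentation.of_finiteType.mp ‹_›
  obtain ⟨p, hp⟩ := Ideal.nonempty_minimalPrimes (I := (⊥ : Ideal R)) bot_ne_top
  haveI : p.IsPrime := hp.1.1
  have hsm : Algebra.IsSmoothAt k p := by
    haveI : Ring.KrullDimLE 0 (Localization.AtPrime p) := .of_isLocalization p hp _
    letI : Field (Localization.AtPrime p) := (Ring.KrullDimLE.isField_of_isReduced (R := Localization.AtPrime p)).toField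
    haveI : Algebra.EssFiniteType R (Localization.AtPrime p) :=
      Algebra.EssFiniteType.of_isLocalization _ p.primeCompl
    haveI : Algebra.EssFiniteType k (Localization.AtPrime p) := Algebra.EssFiniteType.comp k R _
    exact Algebra.FormallySmooth.of_perfectField
  haveI := isJacobsonRing_of_finiteType (A := k) (B := R)
  obtain ⟨x, hx, hxc⟩ := nonempty_inter_closedPoints (X := PrimeSpectrum R) (Z := Algebra.smoothLocus k R)
    ⟨⟨p, inferInstance⟩, hsm⟩ Algebra.isOpen_smoothLocus.isLocallyClosed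
  exact ⟨x.asIdeal, (PrimeSpectrum.isClosed_singleton_iff_isMaximal x).mp hxc, hx⟩

theorem isSmoothAt_comap {k : Type u} [CommRing k] {R : Type v} [CommRing R] [Algebra k R] (σ : R ≃ₐ[k] R)
    (m : Ideal R) [m.IsPrime] [Algebra.IsSmoothAt k m] : Algebra.IsSmoothAt k (m.comap σ.toAlgHom) := by
  have h : (m.comap σ.toAlgHom).primeCompl.map σ.toRingEquiv.toMonoidHom = m.primeCompl := by
    ext y
    simp only [Submonoid.mem_map, Ideal.mem_primeCompl_iff, Ideal.mem_comap]
    exact ⟨fun ⟨x, hx, hxy⟩ => hxy ▸ hx, fun hy => ⟨σ.symm y, by simpa using hy, σ.apply_symm_apply y⟩⟩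
  exact Algebra.FormallySmooth.of_equiv
    (IsLocalization.algEquivOfAlgEquiv (Localization.AtPrime (m.comap σ.toAlgHom)) (Localization.AtPrime m) σ h).symm

variable {k : Type u} [Field k] [IsAlgClosed k] {A : Type v} [CommRing A] [HopfAlgebra k A] [Algebra.FiniteType k A]

theorem exists_point {R : Type v} [CommRing R] [Algebra k R] [Algebra.FiniteType k R] (m : Ideal R) [m.IsMaximal] :
    ∃ g : R →ₐ[k] k, ∀ a, g a = 0 ↔ a ∈ m := by
  letI := Ideal.Quotient.field m
  haveI : Algebra.FiniteType k (R ⧸ m) :=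
    Algebra.FiniteType.of_surjective (Ideal.Quotient.mkₐ k m) (Ideal.Quotient.mkₐ_surjective _ _)
  haveI := finite_of_finite_type_of_isJacobsonRing k (R ⧸ m)
  haveI : Algebra.IsIntegral k (R ⧸ m) := Algebra.IsIntegral.of_finite _ _
  let e := AlgEquiv.ofBijective (Algebra.ofId k (R ⧸ m)) IsAlgClosed.algebraMap_bijective_of_isIntegral
  refine ⟨e.symm.toAlgHom.comp (Ideal.Quotient.mkₐ k m), fun a => ?_⟩
  rw [← Ideal.Quotient.eq_zero_iff_mem, ← map_eq_zero_iff e.symm e.symm.injective]
  rfl

theorem exists_redTranslate (g : A →ₐ[k] k) (gr : A ⧸ nilradical A →ₐ[k] k) (ε : A ⧸ nilradical A →ₐ[k] k)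
    (hg : gr.comp (Ideal.Quotient.mkₐ k _) = g) (hε : ε.comp (Ideal.Quotient.mkₐ k _) = Bialgebra.counitAlgHom k A) :
    ∃ σ : (A ⧸ nilradical A) ≃ₐ[k] (A ⧸ nilradical A), ∀ x, ε (σ x) = gr x := by
  obtain ⟨τ, τ', h1, h2, he⟩ := exists_translate_inverse g
  let bar : (A →ₐ[k] A) → (A ⧸ nilradical A →ₐ[k] A ⧸ nilradical A) := fun t =>
    Ideal.Quotient.liftₐ (nilradical A) ((Ideal.Quotient.mkₐ k _).comp t) fun a ha =>
      Ideal.Quotient.eq_zero_iff_mem.mpr (mem_nilradical.mpr ((mem_nilradical.mp ha).map t))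
  refine ⟨AlgEquiv.ofAlgHom (bar τ) (bar τ') ?_ ?_, ?_⟩
  · refine Ideal.Quotient.algHom_ext k (AlgHom.ext fun a => ?_)
    exact congrArg (Ideal.Quotient.mk _) (DFunLike.congr_fun h2 a)
  · refine Ideal.Quotient.algHom_ext k (AlgHom.ext fun a => ?_)
    exact congrArg (Ideal.Quotient.mk _) (DFunLike.congr_fun h1 a)
  · intro x
    obtain ⟨a, rfl⟩ := Ideal.Quotient.mk_surjective x
    exact (DFunLike.congr_fun hε (τ a)).trans ((he a).trans (DFunLike.congr_fun hg a).symm)

theorem formallySmooth_reduced : Algebra.FormallySmooth k (A ⧸ nilradical A) := by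
  let B := A ⧸ nilradical A
  haveI : IsReduced B := (Ideal.isRadical_iff_quotient_reduced _).mp (Ideal.radical_isRadical _)
  haveI : Algebra.FiniteType k B :=
    Algebra.FiniteType.of_surjective (Ideal.Quotient.mkₐ k _) (Ideal.Quotient.mkₐ_surjective _ _)
  haveI : Algebra.FinitePresentation k B := Algebra.FinitePresentation.of_finiteType.mp ‹_›
  haveI := isJacobsonRing_of_finiteType (A := k) (B := B)
  let εA : A →ₐ[k] k := Bialgebra.counitAlgHom k A
  have hN : ∀ a ∈ nilradical A, ∀ (g : A →ₐ[k] k), g a = 0 := fun a ha g =>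
    isNilpotent_iff_eq_zero.mp ((mem_nilradical.mp ha).map g)
  let ε : B →ₐ[k] k := Ideal.Quotient.liftₐ _ εA fun a ha => hN a ha _
  have hε : ε.comp (Ideal.Quotient.mkₐ k _) = εA := AlgHom.ext fun a => rfl
  haveI : Nontrivial B := ε.toRingHom.domain_nontrivial
  obtain ⟨m₀, hm₀, hs⟩ := exists_maximal_isSmoothAt (k := k) (R := B)
  obtain ⟨g₀, hg₀⟩ := exists_point (k := k) m₀
  obtain ⟨σ₀, hσ₀⟩ := exists_redTranslate (g₀.comp (Ideal.Quotient.mkₐ k _)) g₀ ε rfl hε
  rw [← Algebra.smoothLocus_eq_univ_iff, Algebra.smoothLocus, Set.eq_univ_iff_forall]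
  have hmax : ∀ (m : Ideal B) [m.IsMaximal], Algebra.IsSmoothAt k m := by
    intro m hm
    obtain ⟨g, hg⟩ := exists_point (k := k) m
    obtain ⟨σ, hσ⟩ := exists_redTranslate (g.comp (Ideal.Quotient.mkₐ k _)) g ε rfl hε
    have e : m₀.comap (σ.trans σ₀.symm).toAlgHom = m := by
      ext x
      rw [Ideal.mem_comap, ← hg₀, ← hg, ← hσ₀, ← hσ]
      simp
    haveI := hs
    have := isSmoothAt_comap (σ.trans σ₀.symm) m₀
    convert this using 2
    exact e.symm
  intro x
  obtain ⟨m, hm, hle⟩ := Ideal.exists_le_maximal x.asIdeal x.2.ne_top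
  have hmem : (⟨m, hm.isPrime⟩ : PrimeSpectrum B) ∈ Algebra.smoothLocus k B := hmax m
  exact ((PrimeSpectrum.le_iff_specializes x ⟨m, hm.isPrime⟩).mp hle).mem_open Algebra.isOpen_smoothLocus hmem

theorem isReduced_of_nilradical_le_sq (h : nilradical A ≤ HopfDeriv.augI k A ^ 2) : IsReduced A := by
  haveI : IsNoetherianRing A := Algebra.FiniteType.isNoetherianRing k A
  haveI := formallySmooth_reduced (k := k) (A := A)
  refine ⟨fun a ha => eq_zero_of_forall_maximal_pow fun m hm n => ?_⟩
  obtain ⟨g, hg⟩ := exists_point (k := k) m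
  obtain ⟨τ, τ', h1, h2, hε⟩ := exists_translate_inverse g
  have hmap : (HopfDeriv.augI k A).map τ' ≤ m := Ideal.map_le_iff_le_comap.mpr fun y hy => by
    refine (hg _).mp ?_
    rw [← hε, show τ (τ' y) = y from DFunLike.congr_fun h2 y]
    exact hy
  have ha' : τ a ∈ HopfDeriv.augI k A ^ n :=
    le_pow_of_formallySmooth_quot (k := k) _ _ h n (mem_nilradical.mpr (ha.map τ))
  have h3 := Ideal.mem_map_of_mem τ' ha'
  rw [Ideal.map_pow, show τ' (τ a) = a from DFunLike.congr_fun h1 a] at h3
  exact Ideal.pow_right_mono hmap n h3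

end Groth.Agent.HopfGr
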