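import Groth.Agent.HopfGr.Leading
import Groth.Agent.HopfDeriv.Basic
import Mathlib

/-! The associated graded ring of a Hopf algebra at the identity, in degrees invertible in the field. -/

set_option autoImplicit false
universe u v

open TensorProduct

noncomputable section

namespace Groth.Agent.HopfGr

variable {k : Type u} [Field k] {A : Type v} [CommRing A] [HopfAlgebra k A]

variable (k A) in
/-- The projection to the cotangent space at the identity. -/
def proj : A →ₗ[k] (HopfDeriv.augI k A).Cotangent where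
  toFun a := (HopfDeriv.augI k A).toCotangent
    ⟨a - algebraMap k A (Coalgebra.counit (R := k) a), by simp [RingHom.mem_ker]⟩
  map_add' a b := by
    rw [← map_add]
    congr 1
    exact Subtype.ext (by simp [map_add]; abel)
  map_smul' c a := by
    rw [RingHom.id_apply, ← algebraMap_smul A c ((HopfDeriv.augI k A).toCotangent _), ← map_smul]
    congr 1
    exact Subtype.ext (by simp [Algebra.smul_def, mul_sub])

theorem proj_coe (x : HopfDeriv.augI k A) : proj k A (x : A) = (HopfDeriv.augI k A).toCotangent x := by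
  have h : Coalgebra.counit (R := k) (x : A) = 0 := x.2
  show (HopfDeriv.augI k A).toCotangent _ = _
  congr 1
  exact Subtype.ext (by simp [h])

theorem proj_one : proj k A 1 = 0 := by
  show (HopfDeriv.augI k A).toCotangent _ = _
  rw [← map_zero (HopfDeriv.augI k A).toCotangent]
  congr 1
  exact Subtype.ext (by simp)

theorem surjective_proj' : Function.Surjective (proj k A) :=
  HopfDeriv.surjective_proj (proj k A) proj_coe proj_one

theorem finite_cotangent [Algebra.FiniteType k A] : Module.Finite k (HopfDeriv.augI k A).Cotangent := by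
  classical
  haveI : IsNoetherianRing A := Algebra.FiniteType.isNoetherianRing k A
  obtain ⟨s, hs⟩ := IsNoetherian.noetherian (HopfDeriv.augI k A)
  refine ⟨⟨s.image (proj k A), eq_top_iff.mpr fun c _ => ?_⟩⟩
  obtain ⟨⟨x, hx⟩, rfl⟩ := Ideal.toCotangent_surjective _ c
  rw [← proj_coe]
  show proj k A x ∈ _
  rw [← hs] at hx
  clear * - hx hs
  induction hx using Submodule.span_induction with
  | mem y hy => exact Submodule.subset_span (by simpa using ⟨y, hy, rfl⟩)
  | zero => rw [map_zero]; exact zero_mem _
  | add y z _ _ hy hz => rw [map_add]; exact add_mem hy hz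
  | smul a y hy h =>
    have hy' : Coalgebra.counit (R := k) y = 0 := by
      have : y ∈ HopfDeriv.augI k A := hs ▸ hy
      exact this
    rw [smul_eq_mul, HopfDeriv.proj_mul (proj k A) proj_coe proj_one, hy', zero_smul, add_zero]
    exact Submodule.smul_mem _ _ h

variable {ι : Type} (b : Module.Basis ι k (HopfDeriv.augI k A).Cotangent)

/-- The coordinate functionals at the identity. -/
def coord (i : ι) : A →ₗ[k] k := b.coord i ∘ₗ proj k A

/-- The invariant derivation of a coordinate functional. -/
def der (i : ι) : A →ₗ[k] A := HopfDeriv.twist LinearMap.id (Algebra.linearMap k A ∘ₗ coord b i)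

theorem der_mul (i : ι) (a c : A) : der b i (a * c) = a * der b i c + c * der b i a :=
  HopfDeriv.twist_id_leibniz _ (fun x y => by
    simp [coord, HopfDeriv.proj_mul (proj k A) proj_coe proj_one, Algebra.smul_def]) a c

theorem counit_der (i : ι) (a : A) : Coalgebra.counit (R := k) (der b i a) = coord b i a := by
  conv_rhs => rw [← one_smul k a, ← TensorProduct.lid_tmul, ← Coalgebra.rTensor_counit_comul (R := k) a]
  simp only [der, HopfDeriv.twist_id, LinearMap.comp_apply]
  induction Coalgebra.comul (R := k) a with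
  | zero => simp
  | add x y hx hy => simp only [map_add, hx, hy]
  | tmul x y => simp

variable [Fintype ι]

local notation "Poly" => MvPolynomial ι k

/-- The generic invariant derivation. -/
def gen : Poly ⊗[k] A →ₗ[k] Poly ⊗[k] A :=
  ∑ i, LinearMap.mulLeft k ((MvPolynomial.X i : Poly) ⊗ₜ[k] (1 : A)) ∘ₗ (der b i).lTensor Poly

theorem gen_mul (x y : Poly ⊗[k] A) : gen b (x * y) = gen b x * y + x * gen b y := by
  have h : ∀ i, (der b i).lTensor Poly (x * y) =
      (der b i).lTensor Poly x * y + x * (der b i).lTensor Poly y := by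
    intro i
    induction x with
    | zero => simp
    | add p q hp hq => simp only [add_mul, map_add, hp, hq]; abel
    | tmul p a =>
      induction y with
      | zero => simp
      | add r s hr hs => simp only [mul_add, map_add, hr, hs]; abel
      | tmul q c =>
        simp only [Algebra.TensorProduct.tmul_mul_tmul, LinearMap.lTensor_tmul, der_mul, ← TensorProduct.tmul_add]
        congr 1
        ring
  simp only [gen, LinearMap.sum_apply, LinearMap.comp_apply, LinearMap.mulLeft_apply, h, Finset.sum_mul,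
    Finset.mul_sum, ← Finset.sum_add_distrib]
  exact Finset.sum_congr rfl fun i _ => by ring

variable (k A ι) in
/-- The augmentation over the polynomial ring. -/
def aug : Poly ⊗[k] A →ₐ[k] Poly :=
  Algebra.TensorProduct.lift (AlgHom.id k Poly) ((Algebra.ofId k Poly).comp (Bialgebra.counitAlgHom k A))
    fun _ _ => Commute.all _ _

/-- The degree `n` part of the exponential at the identity, times `n!`. -/
def lead (n : ℕ) : A →ₗ[k] Poly :=
  (aug k A ι).toLinearMap ∘ₗ (gen b ^ n) ∘ₗ
    (Algebra.TensorProduct.includeRight : A →ₐ[k] Poly ⊗[k] A).toLinearMap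

theorem lead_apply (n : ℕ) (a : A) :
    lead b n a = (aug k A ι).toRingHom ((gen b).toAddMonoidHom^[n] ((1 : Poly) ⊗ₜ[k] a)) := by
  show aug k A ι ((gen b ^ n) _) = _
  rw [Module.End.pow_apply]
  rfl

theorem tmul_mem_pow {n : ℕ} {a : A} (ha : a ∈ (HopfDeriv.augI k A) ^ n) :
    (1 : Poly) ⊗ₜ[k] a ∈ RingHom.ker (aug k A ι).toRingHom ^ n := by
  let inc : A →ₐ[k] Poly ⊗[k] A := Algebra.TensorProduct.includeRight
  have h : (HopfDeriv.augI k A).map inc ≤ RingHom.ker (aug k A ι).toRingHom := Ideal.map_le_iff_le_comap.mpr fun x hx => by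
    have hx' : Coalgebra.counit (R := k) x = 0 := hx
    simp [inc, aug, hx', RingHom.mem_ker]
  refine Ideal.pow_right_mono h n ?_
  rw [← Ideal.map_pow]
  exact Ideal.mem_map_of_mem inc ha

theorem lead_eq_zero {n : ℕ} {a : A} (ha : a ∈ (HopfDeriv.augI k A) ^ (n + 1)) : lead b n a = 0 := by
  rw [lead_apply]
  exact apply_iterate_eq_zero _ (gen_mul b) _ (Nat.lt_succ_self n) (tmul_mem_pow ha)

theorem lead_mul {n m : ℕ} {a c : A} (ha : a ∈ (HopfDeriv.augI k A) ^ n) (hc : c ∈ (HopfDeriv.augI k A) ^ m) :
    lead b (n + m) (a * c) = (n + m).choose n • (lead b n a * lead b m c) := by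
  simp only [lead_apply]
  rw [show (1 : Poly) ⊗ₜ[k] (a * c) = ((1 : Poly) ⊗ₜ[k] a) * ((1 : Poly) ⊗ₜ[k] c) by
    rw [Algebra.TensorProduct.tmul_mul_tmul, one_mul]]
  exact apply_iterate_mul _ (gen_mul b) _ (tmul_mem_pow ha) (tmul_mem_pow hc)

theorem lead_pow {n : ℕ} {a : A} (ha : a ∈ (HopfDeriv.augI k A) ^ n) (m : ℕ) :
    ∃ c : ℕ, 0 < c ∧ lead b (n * m) (a ^ m) = c • lead b n a ^ m := by
  obtain ⟨c, hc, h⟩ := apply_iterate_pow (gen b).toAddMonoidHom (gen_mul b) (aug k A ι).toRingHom
    (tmul_mem_pow (ι := ι) ha) m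
  refine ⟨c, hc, ?_⟩
  rw [lead_apply, lead_apply, ← h]
  congr 2
  exact map_pow (Algebra.TensorProduct.includeRight : A →ₐ[k] Poly ⊗[k] A) a m

theorem lead_one (a : A) : lead b 1 a = ∑ i, coord b i a • (MvPolynomial.X i : Poly) := by
  rw [lead_apply, Function.iterate_one]
  show aug k A ι (gen b ((1 : Poly) ⊗ₜ[k] a)) = _
  simp only [gen, LinearMap.sum_apply, map_sum, LinearMap.comp_apply, LinearMap.lTensor_tmul,
    LinearMap.mulLeft_apply, Algebra.TensorProduct.tmul_mul_tmul, one_mul, mul_one]
  refine Finset.sum_congr rfl fun i _ => ?_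
  simp [aug, counit_der, Algebra.smul_def, mul_comm]

section Lift

variable [DecidableEq ι] {x : ι → A} (hxI : ∀ i, x i ∈ (HopfDeriv.augI k A)) (hx : ∀ i, proj k A (x i) = b i)

/-- The polynomials of degree `n`. -/
def hom (k : Type u) [Field k] (ι : Type) (n : ℕ) : Submodule k (MvPolynomial ι k) :=
  Submodule.span k (Set.range fun s : Sym ι n => ((s : Multiset ι).map MvPolynomial.X).prod)

theorem prod_X (s : Multiset ι) :
    (s.map (MvPolynomial.X : ι → Poly)).prod = MvPolynomial.monomial (Multiset.toFinsupp s) 1 := by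
  induction s using Multiset.induction_on with
  | empty => simp
  | cons i s ih =>
    rw [Multiset.map_cons, Multiset.prod_cons, ih, MvPolynomial.X, MvPolynomial.monomial_mul, one_mul,
      ← Multiset.singleton_add, map_add, Multiset.toFinsupp_singleton]

variable (k ι) in
theorem finrank_hom (n : ℕ) : Module.finrank k (hom k ι n) = (Fintype.card ι + n - 1).choose n := by
  rw [hom, finrank_span_eq_card, Sym.card_sym_eq_choose]
  have h : (fun s : Sym ι n => ((s : Multiset ι).map (MvPolynomial.X : ι → Poly)).prod) =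
      (MvPolynomial.basisMonomials ι k) ∘ fun s : Sym ι n => Multiset.toFinsupp (s : Multiset ι) := by
    funext s
    simp [prod_X]
  rw [h]
  exact (MvPolynomial.basisMonomials ι k).linearIndependent.comp _
    (Multiset.toFinsupp.injective.comp Sym.coe_injective)

include hxI

theorem prod_mem {n : ℕ} (s : Sym ι n) : ((s : Multiset ι).map x).prod ∈ (HopfDeriv.augI k A) ^ n := by
  induction n with
  | zero => simp
  | succ n ih' =>
    obtain ⟨i, s, rfl⟩ := Sym.exists_eq_cons_of_succ s
    have ih := ih' s
    rw [Sym.coe_cons, Multiset.map_cons, Multiset.prod_cons, pow_succ']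
    exact Ideal.mul_mem_mul (hxI i) ih

theorem aeval_mem {n : ℕ} {q : Poly} (hq : q ∈ hom k ι n) : MvPolynomial.aeval x q ∈ (HopfDeriv.augI k A) ^ n := by
  induction hq using Submodule.span_induction with
  | mem y hy =>
    obtain ⟨s, rfl⟩ := hy
    rw [map_multiset_prod, Multiset.map_map]
    simpa [Function.comp_def] using prod_mem hxI s
  | zero => simp
  | add y z _ _ hy hz => rw [map_add]; exact add_mem hy hz
  | smul c y _ hy => rw [map_smul]; exact Submodule.smul_of_tower_mem _ c hy

include hx

theorem lead_aeval {n : ℕ} {q : Poly} (hq : q ∈ hom k ι n) :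
    lead b n (MvPolynomial.aeval x q) = n.factorial • q := by
  induction hq using Submodule.span_induction with
  | mem y hy =>
    obtain ⟨s, rfl⟩ := hy
    rw [map_multiset_prod, Multiset.map_map,
      show (MvPolynomial.aeval x ∘ MvPolynomial.X : ι → A) = x from funext fun i => MvPolynomial.aeval_X x i]
    induction n with
    | zero =>
      rw [lead_apply, Sym.eq_nil_of_card_zero s]
      simp [aug]
    | succ n ih' =>
      obtain ⟨i, s, rfl⟩ := Sym.exists_eq_cons_of_succ s
      have ih := ih' s
      have h1 : lead b 1 (x i) = MvPolynomial.X i := by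
        rw [lead_one, Finset.sum_eq_single i]
        · simp [coord, hx]
        · intro j _ hj
          simp [coord, hx, Finsupp.single_eq_of_ne hj]
        · simp
      simp only [Sym.coe_cons, Multiset.map_cons, Multiset.prod_cons]
      refine (congrArg (fun j => lead b j (x i * ((s : Multiset ι).map x).prod)) (Nat.add_comm n 1)).trans ?_
      rw [lead_mul b (by rw [pow_one]; exact hxI i) (prod_mem hxI s), h1, ih, Nat.choose_one_right, mul_smul_comm,
        smul_smul, Nat.add_comm 1 n, Nat.factorial_succ]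
  | zero => simp
  | add y z _ _ hy hz => simp only [map_add, hy, hz, smul_add]
  | smul c y _ hy => rw [map_smul, map_smul, hy, smul_comm]

theorem lead_one_mem (a : A) : lead b 1 a ∈ hom k ι 1 := by
  rw [lead_one]
  exact Submodule.sum_mem _ fun i _ => Submodule.smul_mem _ _ (Submodule.subset_span ⟨Sym.cons i Sym.nil,
    show ((i ::ₘ (0 : Multiset ι)).map (MvPolynomial.X : ι → Poly)).prod = _ by simp⟩)

theorem sub_aeval_mem_sq {a : A} (ha : a ∈ (HopfDeriv.augI k A)) :
    a - MvPolynomial.aeval x (lead b 1 a) ∈ (HopfDeriv.augI k A) ^ 2 := by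
  have hq : MvPolynomial.aeval x (lead b 1 a) ∈ (HopfDeriv.augI k A) := by
    simpa only [pow_one] using aeval_mem hxI (lead_one_mem b hxI hx a)
  have h1 : proj k A (MvPolynomial.aeval x (lead b 1 a)) = proj k A a := by
    have hc : ∀ i, coord b i a = b.repr (proj k A a) i := fun i => rfl
    simp only [lead_one, map_sum, map_smul, MvPolynomial.aeval_X, hx, hc, b.sum_repr]
  have h2 : proj k A (a - MvPolynomial.aeval x (lead b 1 a)) = 0 := by rw [map_sub, h1, sub_self]
  rw [show a - MvPolynomial.aeval x (lead b 1 a) =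
    ((⟨_, sub_mem ha hq⟩ : HopfDeriv.augI k A) : A) from rfl, proj_coe, Ideal.toCotangent_eq_zero] at h2
  exact h2

theorem exists_aeval_sub_mem {n : ℕ} {a : A} (ha : a ∈ (HopfDeriv.augI k A) ^ n) :
    ∃ q ∈ hom k ι n, a - MvPolynomial.aeval x q ∈ (HopfDeriv.augI k A) ^ (n + 1) := by
  induction n generalizing a with
  | zero =>
    refine ⟨MvPolynomial.C (Coalgebra.counit (R := k) a), ?_, by simp [RingHom.mem_ker]⟩
    rw [show (MvPolynomial.C (Coalgebra.counit (R := k) a) : Poly) = Coalgebra.counit (R := k) a • (1 : Poly) by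
      rw [MvPolynomial.smul_eq_C_mul, mul_one]]
    exact Submodule.smul_mem _ _ (Submodule.subset_span ⟨Sym.nil,
      show ((0 : Multiset ι).map (MvPolynomial.X : ι → Poly)).prod = _ by simp⟩)
  | succ n ih =>
    rw [pow_succ] at ha
    induction ha using Submodule.mul_induction_on' with
    | mem_mul_mem y hy z hz =>
      obtain ⟨q, hq, hq'⟩ := ih hy
      have hz' := sub_aeval_mem_sq b hxI hx hz
      refine ⟨q * lead b 1 z, ?_, ?_⟩
      · have hl := lead_one_mem b hxI hx z
        generalize lead b 1 z = l at hl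
        clear hq' hz' hy
        induction hq using Submodule.span_induction with
        | mem u hu =>
          obtain ⟨s, rfl⟩ := hu
          induction hl using Submodule.span_induction with
          | mem w hw =>
            obtain ⟨t, rfl⟩ := hw
            refine Submodule.subset_span ⟨s.append t, ?_⟩
            simp [Sym.coe_append]
          | zero => simp
          | add _ _ _ _ h1 h2 => rw [mul_add]; exact add_mem h1 h2
          | smul c _ _ h => rw [mul_smul_comm]; exact Submodule.smul_mem _ c h
        | zero => simp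
        | add _ _ _ _ h1 h2 => rw [add_mul]; exact add_mem h1 h2
        | smul c _ _ h => rw [smul_mul_assoc]; exact Submodule.smul_mem _ c h
      · have e : y * z - MvPolynomial.aeval x (q * lead b 1 z) =
            (y - MvPolynomial.aeval x q) * z + MvPolynomial.aeval x q * (z - MvPolynomial.aeval x (lead b 1 z)) := by
          rw [map_mul]; ring
        rw [e]
        refine add_mem ?_ ?_
        · rw [pow_succ _ (n + 1)]; exact Ideal.mul_mem_mul hq' hz
        · rw [show n + 1 + 1 = n + 2 from rfl, pow_add]; exact Ideal.mul_mem_mul (aeval_mem hxI hq) hz'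
    | add u hu w hw h1 h2 =>
      obtain ⟨q, hq, hq'⟩ := h1
      obtain ⟨r, hr, hr'⟩ := h2
      exact ⟨q + r, add_mem hq hr, by rw [map_add, add_sub_add_comm]; exact add_mem hq' hr'⟩

theorem mem_pow_succ_of_lead_eq_zero {n : ℕ} (hn : (n.factorial : k) ≠ 0) {a : A} (ha : a ∈ (HopfDeriv.augI k A) ^ n)
    (h0 : lead b n a = 0) : a ∈ (HopfDeriv.augI k A) ^ (n + 1) := by
  obtain ⟨q, hq, hq'⟩ := exists_aeval_sub_mem b hxI hx ha
  have h := lead_eq_zero b hq'
  rw [map_sub, h0, zero_sub, neg_eq_zero, lead_aeval b hxI hx hq, ← Nat.cast_smul_eq_nsmul k, smul_eq_zero] at h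
  rw [h.resolve_left hn] at hq'
  simpa using hq'

theorem quotient_step {n : ℕ} (hn : (n.factorial : k) ≠ 0)
    [Module.Finite k (A ⧸ HopfDeriv.augI k A ^ n)] :
    Module.Finite k (A ⧸ HopfDeriv.augI k A ^ (n + 1)) ∧
      Module.finrank k (A ⧸ HopfDeriv.augI k A ^ (n + 1)) =
        Module.finrank k (A ⧸ HopfDeriv.augI k A ^ n) + Nat.choose (Fintype.card ι + n - 1) n := by
  let mk : A →ₗ[k] A ⧸ HopfDeriv.augI k A ^ (n + 1) := (Ideal.Quotient.mkₐ k (HopfDeriv.augI k A ^ (n + 1))).toLinearMap
  let ψ : hom k ι n →ₗ[k] A ⧸ HopfDeriv.augI k A ^ (n + 1) :=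
    mk ∘ₗ (MvPolynomial.aeval x).toLinearMap ∘ₗ (hom k ι n).subtype
  let π : (A ⧸ HopfDeriv.augI k A ^ (n + 1)) →ₗ[k] A ⧸ HopfDeriv.augI k A ^ n :=
    (Ideal.Quotient.factorₐ k (Ideal.pow_le_pow_right (Nat.le_succ n))).toLinearMap
  have hψ : Function.Injective ψ := by
    refine (injective_iff_map_eq_zero ψ).mpr fun q hq => Subtype.ext ?_
    have h := lead_eq_zero b (Ideal.Quotient.eq_zero_iff_mem.mp hq : MvPolynomial.aeval x (q : Poly) ∈ _)
    rw [lead_aeval b hxI hx q.2, ← Nat.cast_smul_eq_nsmul k, smul_eq_zero] at h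
    exact h.resolve_left hn
  have hπ : Function.Surjective π := fun y => by
    obtain ⟨y, rfl⟩ := Ideal.Quotient.mk_surjective y
    exact ⟨Ideal.Quotient.mk _ y, rfl⟩
  have hker : LinearMap.ker π = LinearMap.range ψ := by
    refine le_antisymm (fun y hy => ?_) ?_
    · obtain ⟨a, rfl⟩ := Ideal.Quotient.mk_surjective y
      have ha : a ∈ HopfDeriv.augI k A ^ n := Ideal.Quotient.eq_zero_iff_mem.mp hy
      obtain ⟨q, hq, hq'⟩ := exists_aeval_sub_mem b hxI hx ha
      exact ⟨⟨q, hq⟩, ((Ideal.Quotient.eq).mpr hq').symm⟩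
    · rintro _ ⟨q, rfl⟩
      exact Ideal.Quotient.eq_zero_iff_mem.mpr (aeval_mem hxI q.2)
  haveI : Module.Finite k (hom k ι n) := Module.Finite.iff_fg.mpr (Submodule.fg_span (Set.finite_range _))
  haveI : Module.Finite k (LinearMap.ker π) := hker ▸ Module.Finite.range ψ
  haveI : Module.Finite k ((A ⧸ HopfDeriv.augI k A ^ (n + 1)) ⧸ LinearMap.ker π) :=
    Module.Finite.equiv (π.quotKerEquivOfSurjective hπ).symm
  haveI : Module.Finite k (A ⧸ HopfDeriv.augI k A ^ (n + 1)) := Module.Finite.of_submodule_quotient (LinearMap.ker π)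
  refine ⟨inferInstance, ?_⟩
  rw [← LinearMap.finrank_range_add_finrank_ker π, hker, LinearMap.range_eq_top.mpr hπ, finrank_top,
    LinearMap.finrank_range_of_inj hψ, finrank_hom]

end Lift

end Groth.Agent.HopfGr
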