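import Mathlib

/-! Iterated derivations on powers of the kernel of an augmentation. -/

set_option autoImplicit false
universe u v

namespace Groth.Agent.HopfGr

variable {R : Type u} [CommRing R] {P : Type v} [CommRing P] (D : R →+ R)
  (hD : ∀ a b, D (a * b) = D a * b + a * D b) (χ : R →+* P)

include hD

theorem deriv_mem_pow (J : Ideal R) {n : ℕ} : ∀ {a : R}, a ∈ J ^ (n + 1) → D a ∈ J ^ n := by
  induction n with
  | zero => intro a _; simp
  | succ n ih =>
    intro a ha
    rw [pow_succ] at ha
    induction ha using Submodule.mul_induction_on' with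
    | mem_mul_mem x hx y hy =>
      rw [hD]
      refine add_mem ?_ (Ideal.mul_mem_right _ _ hx)
      rw [pow_succ]
      exact Ideal.mul_mem_mul (ih hx) hy
    | add x _ y _ hx hy => rw [map_add]; exact add_mem hx hy

theorem iterate_mem_pow (J : Ideal R) (j : ℕ) :
    ∀ {n : ℕ} {a : R}, a ∈ J ^ (n + j) → D^[j] a ∈ J ^ n := by
  induction j with
  | zero => intro n a ha; simpa using ha
  | succ j ih =>
    intro n a ha
    rw [Function.iterate_succ_apply]
    exact ih (deriv_mem_pow D hD J ha)

theorem apply_iterate_eq_zero {n j : ℕ} (hj : j < n) {a : R} (ha : a ∈ RingHom.ker χ ^ n) :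
    χ (D^[j] a) = 0 := by
  obtain ⟨m, rfl⟩ := Nat.exists_eq_add_of_lt hj
  have h := iterate_mem_pow D hD (RingHom.ker χ) j (n := m + 1) (a := a) (by rwa [show m + 1 + j = j + m + 1 by omega])
  exact RingHom.mem_ker.mp (Ideal.pow_le_self (Nat.succ_ne_zero m) h)

theorem apply_iterate_add (N : ℕ) : ∀ {n m : ℕ}, n + m = N → ∀ {a b : R}, a ∈ RingHom.ker χ ^ n →
    b ∈ RingHom.ker χ ^ m → χ (D^[N] (a * b)) = N.choose n • (χ (D^[n] a) * χ (D^[m] b)) := by
  induction N with
  | zero =>
    intro n m h a b _ _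
    obtain ⟨rfl, rfl⟩ : n = 0 ∧ m = 0 := by omega
    simp
  | succ N ih =>
    intro n m h a b ha hb
    rw [Function.iterate_succ_apply, hD, iterate_map_add, map_add]
    rcases n with _ | n
    · obtain rfl : m = N + 1 := by omega
      have h1 : χ (D^[N] (D a * b)) = 0 :=
        apply_iterate_eq_zero D hD χ (Nat.lt_succ_self N) (Ideal.mul_mem_left _ _ hb)
      rw [h1, zero_add, ih (Nat.zero_add N) ha (deriv_mem_pow D hD _ hb), ← Function.iterate_succ_apply]
      simp
    · have e1 := ih (n := n) (m := m) (by omega) (deriv_mem_pow D hD _ ha) hb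
      rcases m with _ | m
      · have h1 : χ (D^[N] (a * D b)) = 0 :=
          apply_iterate_eq_zero D hD χ (by omega : N < n + 1) (Ideal.mul_mem_right _ _ ha)
        obtain rfl : n = N := by omega
        rw [h1, add_zero, e1, ← Function.iterate_succ_apply]
        simp
      · have e2 := ih (n := n + 1) (m := m) (by omega) ha (deriv_mem_pow D hD _ hb)
        rw [e1, e2, ← Function.iterate_succ_apply D n a, ← Function.iterate_succ_apply D m b, ← add_smul,
          Nat.choose_succ_succ]

theorem apply_iterate_mul {n m : ℕ} {a b : R} (ha : a ∈ RingHom.ker χ ^ n) (hb : b ∈ RingHom.ker χ ^ m) :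
    χ (D^[n + m] (a * b)) = (n + m).choose n • (χ (D^[n] a) * χ (D^[m] b)) :=
  apply_iterate_add D hD χ (n + m) rfl ha hb

theorem apply_iterate_pow {n : ℕ} {a : R} (ha : a ∈ RingHom.ker χ ^ n) : ∀ m : ℕ,
    ∃ c : ℕ, 0 < c ∧ χ (D^[n * m] (a ^ m)) = c • χ (D^[n] a) ^ m := by
  intro m
  induction m with
  | zero => exact ⟨1, one_pos, by simp⟩
  | succ m ih =>
    obtain ⟨c, hc, h⟩ := ih
    refine ⟨(n * m + n).choose (n * m) * c, Nat.mul_pos (Nat.choose_pos (Nat.le_add_right _ _)) hc, ?_⟩
    rw [pow_succ, Nat.mul_succ, apply_iterate_mul D hD χ (by rw [pow_mul]; exact Ideal.pow_mem_pow ha m) ha, h,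
      smul_mul_assoc, smul_smul, pow_succ]

theorem apply_iterate_prod {n : ℕ} (y : Fin n → R) (hy : ∀ i, y i ∈ RingHom.ker χ) :
    χ (D^[n] (∏ i, y i)) = n.factorial • ∏ i, χ (D (y i)) := by
  induction n with
  | zero => simp
  | succ n ih =>
    rw [Fin.prod_univ_succ, Fin.prod_univ_succ]
    refine (congrArg (fun j => χ (D^[j] (y 0 * ∏ i : Fin n, y i.succ))) (Nat.add_comm n 1)).trans ?_
    rw [apply_iterate_mul D hD χ (n := 1) (m := n) (by rw [pow_one]; exact hy 0)
        (by
          have h := Ideal.prod_mem_prod (ι := Fin n) (s := Finset.univ) (I := fun _ => RingHom.ker χ)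
            fun i _ => hy i.succ
          simpa using h),
      ih _ fun i => hy i.succ, Function.iterate_one, mul_smul_comm, smul_smul, Nat.choose_one_right,
      Nat.factorial_succ, Nat.add_comm 1 n]

end Groth.Agent.HopfGr
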